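import Mathlib

/-!
# The number of nilpotent endomorphisms of a finite vector space
-/

set_option autoImplicit false

namespace Cfsg.Agent.NilCount

open Module Submodule

variable {F : Type*} [Field F]

theorem chain_linearIndependent {V : Type*} [AddCommGroup V] [Module F V] (T : Module.End F V) (v : V) :
    ∀ k : ℕ, (T ^ k) v = 0 → (∀ j, j < k → (T ^ j) v ≠ 0) → LinearIndependent F (fun i : Fin k => (T ^ (i : ℕ)) v) := by
  intro k hk hmin
  rw [Fintype.linearIndependent_iff]
  intro c hc i
  induction i using WellFoundedLT.induction with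
  | _ i ih =>
    have hi := i.isLt
    have h := congrArg (T ^ (k - 1 - i : ℕ)) hc
    rw [map_zero, map_sum, Finset.sum_eq_single i] at h
    · rw [map_smul, ← Module.End.mul_apply, ← pow_add, show k - 1 - (i : ℕ) + i = k - 1 by omega, smul_eq_zero] at h
      exact h.resolve_right (hmin _ (by omega))
    · intro b _ hb
      rcases lt_or_gt_of_ne hb with hlt | hgt
      · rw [ih b hlt, zero_smul, map_zero]
      · rw [map_smul, ← Module.End.mul_apply, ← pow_add]
        have : k ≤ k - 1 - (i : ℕ) + b := by omega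
        obtain ⟨d, hd⟩ := Nat.exists_eq_add_of_le this
        rw [hd, add_comm, pow_add, Module.End.mul_apply, hk, map_zero, smul_zero]
    · intro h'; exact absurd (Finset.mem_univ i) h'

theorem card_fibre [Fintype F] {V : Type*} [AddCommGroup V] [Module F V] [Finite V] {k : ℕ} (e : Fin k → V)
    (he : LinearIndependent F e)
    (hN : ∀ C : Submodule F V, Module.finrank F C = Module.finrank F V - k →
      Nat.card {T : Module.End F C // IsNilpotent T} = Fintype.card F ^ ((Module.finrank F V - k) * (Module.finrank F V - k - 1))) :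
    Nat.card {T : Module.End F V // IsNilpotent T ∧ ∀ i : Fin k, T (e i) = if h : (i : ℕ) + 1 < k then e ⟨i + 1, h⟩ else 0} =
      Fintype.card F ^ ((Module.finrank F V - k) * (Module.finrank F V - k - 1) + k * (Module.finrank F V - k)) := by
  classical
  set W := span F (Set.range e) with hW
  obtain ⟨C, hC⟩ := W.exists_isCompl
  have hWk : finrank F W = k := by rw [hW, finrank_span_eq_card he, Fintype.card_fin]
  have hCk : finrank F C = finrank F V - k := by
    have := Submodule.finrank_add_eq_of_isCompl hC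
    omega
  let S : W →ₗ[F] W := (Basis.span he).constr F fun i =>
    if h : (i : ℕ) + 1 < k then ⟨e ⟨i + 1, h⟩, subset_span ⟨_, rfl⟩⟩ else 0
  have hS : ∀ i, (S ⟨e i, subset_span ⟨i, rfl⟩⟩ : V) = if h : (i : ℕ) + 1 < k then e ⟨i + 1, h⟩ else 0 := by
    intro i
    have : (⟨e i, subset_span ⟨i, rfl⟩⟩ : W) = Basis.span he i := (Basis.span_apply he i).symm
    rw [this, Basis.constr_basis]
    split_ifs <;> rfl
  -- endomorphisms extending the shift
  let mk : (Module.End F C) × (C →ₗ[F] W) → Module.End F V := fun x =>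
    LinearMap.ofIsCompl hC (W.subtype ∘ₗ S) (C.subtype ∘ₗ x.1 + W.subtype ∘ₗ x.2)
  have hmke : ∀ x i, mk x (e i) = if h : (i : ℕ) + 1 < k then e ⟨i + 1, h⟩ else 0 := by
    intro x i
    rw [← hS i]
    exact LinearMap.ofIsCompl_apply_left hC (⟨e i, subset_span ⟨i, rfl⟩⟩ : W)
  have hmkW : ∀ x (w : W), mk x w = (S w : V) := fun x w => LinearMap.ofIsCompl_apply_left hC w
  have hmkC : ∀ x (c : C), mk x c = (x.1 c : V) + (x.2 c : V) := fun x c => LinearMap.ofIsCompl_apply_right hC c
  have hchar : ∀ T : Module.End F V, (∀ i : Fin k, T (e i) = if h : (i : ℕ) + 1 < k then e ⟨i + 1, h⟩ else 0) →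
      ∃ x, mk x = T := by
    intro T hT
    refine ⟨(C.projectionOnto W hC.symm ∘ₗ T ∘ₗ C.subtype, W.projectionOnto C hC ∘ₗ T ∘ₗ C.subtype), ?_⟩
    refine LinearMap.ofIsCompl_eq hC (fun w => ?_) fun c => ?_
    · suffices W.subtype ∘ₗ S = T ∘ₗ W.subtype from LinearMap.congr_fun this w
      refine (Basis.span he).ext fun i => ?_
      show ((S (Basis.span he i)) : V) = T ((Basis.span he i : W) : V)
      have : (⟨e i, subset_span ⟨i, rfl⟩⟩ : W) = Basis.span he i := (Basis.span_apply he i).symm
      rw [← this, hS, ← hT]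
    · obtain ⟨a, b, hab, -⟩ := Submodule.existsUnique_add_of_isCompl hC (T c)
      simp only [LinearMap.add_apply, LinearMap.comp_apply, Submodule.coe_subtype]
      rw [← hab, map_add, map_add, projectionOnto_apply_left, projectionOnto_apply_left,
        Submodule.coe_add, Submodule.coe_add]
      simp [add_comm]
  have hinj : Function.Injective mk := by
    intro x y h
    have key : ∀ c : C, x.1 c = y.1 c ∧ x.2 c = y.2 c := by
      intro c
      have := LinearMap.congr_fun h (c : V)
      rw [hmkC, hmkC] at this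
      have e1 : ((x.1 c - y.1 c : C) : V) = ((y.2 c - x.2 c : W) : V) := by
        simp only [Submodule.coe_sub]
        rw [sub_eq_sub_iff_add_eq_add, this, add_comm]
      have h0 : ((x.1 c - y.1 c : C) : V) ∈ W ⊓ C := ⟨e1 ▸ (y.2 c - x.2 c).2, (x.1 c - y.1 c).2⟩
      rw [hC.inf_eq_bot, Submodule.mem_bot] at h0
      rw [h0] at e1
      exact ⟨sub_eq_zero.1 (Subtype.ext h0), (sub_eq_zero.1 (Subtype.ext e1.symm)).symm⟩
    exact Prod.ext (LinearMap.ext fun c => (key c).1) (LinearMap.ext fun c => (key c).2)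
  have hWinv : ∀ x, ∀ w ∈ W, mk x w ∈ W := fun x w hw => by
    rw [hmkW x ⟨w, hw⟩]; exact (S _).2
  have hWnil : ∀ x, ∀ w ∈ W, (mk x ^ k) w = 0 := by
    intro x
    have : ∀ d, ∀ i : Fin k, k ≤ (i : ℕ) + d → (mk x ^ d) (e i) = 0 := by
      intro d
      induction d with
      | zero => intro i hi; omega
      | succ d ih =>
        intro i hi
        rw [pow_succ, Module.End.mul_apply, hmke]
        split_ifs with h
        · exact ih ⟨i + 1, h⟩ (by show k ≤ (i : ℕ) + 1 + d; omega)
        · exact map_zero _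
    intro w hw
    have hle : W ≤ LinearMap.ker (mk x ^ k) := span_le.2 (by
      rintro _ ⟨i, rfl⟩; exact this k i (by omega))
    exact hle hw
  have hproj : ∀ x, ∀ m : ℕ, ∀ v, C.projectionOnto W hC.symm ((mk x ^ m) v) = (x.1 ^ m) (C.projectionOnto W hC.symm v) := by
    intro x m
    induction m with
    | zero => intro v; simp
    | succ m ih =>
      intro v
      rw [pow_succ, pow_succ, Module.End.mul_apply, Module.End.mul_apply, ih]
      congr 1
      obtain ⟨a, b, hab, -⟩ := Submodule.existsUnique_add_of_isCompl hC v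
      rw [← hab, map_add (mk x), hmkW, hmkC]
      simp
  have hnil : ∀ x, IsNilpotent (mk x) ↔ IsNilpotent x.1 := by
    intro x
    constructor
    · rintro ⟨m, hm⟩
      refine ⟨m, LinearMap.ext fun c => ?_⟩
      have := hproj x m c
      rw [hm, LinearMap.zero_apply, map_zero, projectionOnto_apply_left] at this
      rw [← this]; rfl
    · rintro ⟨m, hm⟩
      refine ⟨k + m, LinearMap.ext fun v => ?_⟩
      rw [pow_add, Module.End.mul_apply]
      refine hWnil x _ ?_
      obtain ⟨a, b, hab, -⟩ := Submodule.existsUnique_add_of_isCompl hC ((mk x ^ m) v)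
      have := hproj x m v
      rw [hm, LinearMap.zero_apply, ← hab] at this
      simp at this
      rw [← hab, this]
      simp
  let f : {T : Module.End F C // IsNilpotent T} × (C →ₗ[F] W) →
      {T : Module.End F V // IsNilpotent T ∧ ∀ i : Fin k, T (e i) = if h : (i : ℕ) + 1 < k then e ⟨i + 1, h⟩ else 0} :=
    fun x => ⟨mk (x.1.1, x.2), (hnil _).2 x.1.2, hmke _⟩
  have hf : Function.Bijective f := by
    constructor
    · intro x y h
      have := hinj (congrArg Subtype.val h)
      obtain ⟨h1, h2⟩ := Prod.mk.inj this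
      exact Prod.ext (Subtype.ext h1) h2
    · rintro ⟨T, hT, hTe⟩
      obtain ⟨x, rfl⟩ := hchar T hTe
      exact ⟨(⟨x.1, (hnil x).1 hT⟩, x.2), rfl⟩
  rw [← Nat.card_congr (Equiv.ofBijective f hf), Nat.card_prod, hN C hCk,
    Module.natCard_eq_pow_finrank (K := F), Module.finrank_linearMap, hCk, hWk, Nat.card_eq_fintype_card, ← pow_add]
  congr 1
  ring

theorem telescope {q n : ℕ} (hq : 0 < q) :
    ∀ d k, k + d = n → ∑ j ∈ Finset.Icc k n, (∏ i : Fin j, (q ^ n - q ^ (i : ℕ))) * q ^ ((n - j) * (n - 1)) =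
      (∏ i : Fin k, (q ^ n - q ^ (i : ℕ))) * q ^ ((n - k) * n) := by
  intro d
  induction d with
  | zero => intro k hk; subst hk; simp
  | succ d ih =>
    intro k hk
    have hkn : k < n := by omega
    rw [← Finset.insert_Icc_add_one_left_eq_Icc (le_of_lt hkn), Finset.sum_insert (by simp),
      ih (k + 1) (by omega), Fin.prod_univ_castSucc (n := k)]
    simp only [Fin.val_castSucc, Fin.val_last]
    rw [mul_assoc, ← mul_add]
    congr 1
    have hle : q ^ k ≤ q ^ n := Nat.pow_le_pow_right hq hkn.le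
    rw [Nat.sub_mul (q ^ n) (q ^ k), ← pow_add, ← pow_add]
    have e1 : k + (n - (k + 1)) * n = (n - k) * (n - 1) := by
      obtain ⟨a, rfl⟩ : ∃ a, n = k + 1 + a := ⟨n - k - 1, by omega⟩
      simp only [Nat.add_sub_cancel_left, show k + 1 + a - k = a + 1 by omega, show k + 1 + a - 1 = k + a by omega]
      ring
    have e2 : n + (n - (k + 1)) * n = (n - k) * n := by
      rw [show n - k = n - (k + 1) + 1 by omega, add_mul, one_mul, add_comm]
    rw [e1, e2]
    have hmono : q ^ ((n - k) * (n - 1)) ≤ q ^ ((n - k) * n) :=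
      Nat.pow_le_pow_right hq (Nat.mul_le_mul_left _ (Nat.sub_le n 1))
    omega

universe v

theorem card_nilpotent [Fintype F] : ∀ (n : ℕ) (V : Type v) [AddCommGroup V] [Module F V] [Finite V],
    Module.finrank F V = n → Nat.card {T : Module.End F V // IsNilpotent T} = Fintype.card F ^ (n * (n - 1)) := by
  intro n
  induction n using Nat.strong_induction_on with
  | _ n ih =>
    intro V _ _ _ hn
    classical
    rcases Nat.eq_zero_or_pos n with rfl | hn0
    · have : Subsingleton V := Module.finrank_zero_iff.1 hn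
      haveI : Subsingleton (Module.End F V) := ⟨fun a b => LinearMap.ext fun v => Subsingleton.elim _ _⟩
      simpa using Nat.card_eq_one_iff_unique.2 ⟨inferInstance, ⟨⟨0, IsNilpotent.zero⟩⟩⟩
    set q := Fintype.card F with hq
    have hq1 : 1 < q := Fintype.one_lt_card
    set N := Nat.card {T : Module.End F V // IsNilpotent T} with hN
    let nxt : ∀ k, (Fin k → V) → Fin k → V := fun k e i => if h : (i : ℕ) + 1 < k then e ⟨i + 1, h⟩ else 0
    let Fib : Fin n → Type v := fun j => Σ e : {e : Fin (j + 1 : ℕ) → V // LinearIndependent F e},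
      {T : Module.End F V // IsNilpotent T ∧ ∀ i, T (e.1 i) = nxt _ e.1 i}
    let f : (Σ j : Fin n, Fib j) → {T : Module.End F V // IsNilpotent T} × {v : V // v ≠ 0} := fun x =>
      (⟨x.2.2.1, x.2.2.2.1⟩, ⟨x.2.1.1 0, x.2.1.2.ne_zero 0⟩)
    have hrec : ∀ (j : Fin n) (e : Fin (j + 1 : ℕ) → V) (T : Module.End F V), (∀ i, T (e i) = nxt _ e i) →
        (∀ i : Fin (j + 1 : ℕ), (T ^ (i : ℕ)) (e 0) = e i) ∧ (T ^ ((j : ℕ) + 1)) (e 0) = 0 := by
      intro j e T hT
      have h1 : ∀ i, ∀ h : i < (j : ℕ) + 1, (T ^ i) (e 0) = e ⟨i, h⟩ := by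
        intro i
        induction i with
        | zero => intro h; simp
        | succ i ihi =>
          intro h
          rw [pow_succ', Module.End.mul_apply, ihi (by omega), hT]
          exact dif_pos h
      refine ⟨fun i => h1 i i.2, ?_⟩
      rw [pow_succ', Module.End.mul_apply, h1 j (by omega), hT]
      exact dif_neg (by simp)
    have hf : Function.Bijective f := by
      constructor
      · rintro ⟨j, ⟨e, he⟩, ⟨T, hT⟩⟩ ⟨j', ⟨e', he'⟩, ⟨T', hT'⟩⟩ h
        obtain rfl : T = T' := congrArg (fun z => z.1.1) h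
        have h0 : e 0 = e' 0 := congrArg (fun z => z.2.1) h
        obtain ⟨r1, r2⟩ := hrec j e T hT.2
        obtain ⟨r1', r2'⟩ := hrec j' e' T hT'.2
        have key : ∀ (a b : Fin n) (ea : Fin (a + 1 : ℕ) → V), LinearIndependent F ea →
            (∀ i : Fin (a + 1 : ℕ), (T ^ (i : ℕ)) (e 0) = ea i) → (T ^ ((b : ℕ) + 1)) (e 0) = 0 → ¬ (b : ℕ) < a := by
          intro a b ea hli hea hb hlt
          have := hea ⟨(b : ℕ) + 1, by omega⟩
          rw [hb] at this
          exact hli.ne_zero _ this.symm
        have hjj : j = j' := Fin.ext (Nat.le_antisymm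
          (not_lt.1 (key j j' e he r1 (h0 ▸ r2'))) (not_lt.1 (key j' j e' he' (fun i => h0 ▸ r1' i) r2)))
        subst hjj
        obtain rfl : e = e' := funext fun i => by rw [← r1 i, h0, r1' i]
        rfl
      · rintro ⟨⟨T, hT⟩, ⟨v, hv⟩⟩
        obtain ⟨m, hm⟩ := hT
        have hex : ∃ k, (T ^ k) v = 0 := ⟨m, by rw [hm]; rfl⟩
        set k := Nat.find hex with hk
        have hk0 : k ≠ 0 := fun h => hv (by have := Nat.find_spec hex; rw [← hk, h] at this; simpa using this)
        have hli := chain_linearIndependent T v k (Nat.find_spec hex) fun j hj => Nat.find_min hex hj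
        have hkn : k ≤ n := hn ▸ (by simpa using hli.fintype_card_le_finrank)
        obtain ⟨j, hj⟩ : ∃ j, k = j + 1 := ⟨k - 1, by omega⟩
        rw [hj] at hli
        refine ⟨⟨⟨j, by omega⟩, ⟨fun i => (T ^ (i : ℕ)) v, hli⟩, ⟨T, ⟨m, hm⟩, fun i => ?_⟩⟩, ?_⟩
        · show T ((T ^ (i : ℕ)) v) = _
          rw [← Module.End.mul_apply, ← pow_succ']
          simp only [nxt]
          split_ifs with h
          · rfl
          · have : (i : ℕ) + 1 = k := by have := i.2; simp only [Fin.val_mk] at h this ⊢; omega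
            rw [this]; exact Nat.find_spec hex
        · simp [f]
    haveI : Finite (Module.End F V) := Finite.of_injective (fun T => (T : V → V)) DFunLike.coe_injective
    have hcardFib : ∀ j : Fin n, Nat.card (Fib j) =
        (∏ i : Fin ((j : ℕ) + 1), (q ^ n - q ^ (i : ℕ))) * q ^ ((n - ((j : ℕ) + 1)) * (n - 1)) := by
      intro j
      have hle : (j : ℕ) + 1 ≤ Module.finrank F V := by omega
      haveI : Fintype {e : Fin (j + 1 : ℕ) → V // LinearIndependent F e} := Fintype.ofFinite _
      rw [Nat.card_sigma, Finset.sum_eq_card_nsmul (b := q ^ ((n - ((j : ℕ) + 1)) * (n - 1))), smul_eq_mul,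
        Finset.card_univ, ← Nat.card_eq_fintype_card, card_linearIndependent hle, hn]
      rintro ⟨e, he⟩ -
      show Nat.card {T : Module.End F V // IsNilpotent T ∧ ∀ i, T (e i) = nxt _ e i} = _
      rw [card_fibre e he (fun C hC => ih _ (by omega) C hC), hn]
      congr 1
      have key : ∀ a b : ℕ, a * (a - 1) + (b + 1) * a = a * (b + 1 + a - 1) := by
        intro a b
        rcases a with _ | a
        · simp
        · rw [show b + 1 + (a + 1) - 1 = b + 1 + a by omega, Nat.add_sub_cancel]
          ring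
      have hk := key (n - ((j : ℕ) + 1)) j
      rwa [Nat.add_sub_cancel' (show (j : ℕ) + 1 ≤ n by omega)] at hk
    have hV : Nat.card {v : V // v ≠ 0} = q ^ n - 1 := by
      haveI : Fintype V := Fintype.ofFinite V
      rw [Nat.card_eq_fintype_card, Fintype.card_subtype_compl, Fintype.card_subtype_eq, ← hn, hq,
        Module.card_eq_pow_finrank (K := F)]
    have hsum : N * (q ^ n - 1) = ∑ j ∈ Finset.Icc 1 n, (∏ i : Fin j, (q ^ n - q ^ (i : ℕ))) * q ^ ((n - j) * (n - 1)) := by
      rw [hN, ← hV, ← Nat.card_prod, ← Nat.card_congr (Equiv.ofBijective f hf), Nat.card_sigma,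
        Finset.sum_congr rfl fun j _ => hcardFib j,
        Fin.sum_univ_eq_sum_range (fun j => (∏ i : Fin (j + 1), (q ^ n - q ^ (i : ℕ))) * q ^ ((n - (j + 1)) * (n - 1))),
        show Finset.Icc 1 n = Finset.Ico 1 (n + 1) by rfl, Finset.sum_Ico_eq_sum_range, Nat.add_sub_cancel]
      exact Finset.sum_congr rfl fun x _ => by rw [Nat.add_comm 1 x]
    rw [telescope (by omega) (n - 1) 1 (by omega)] at hsum
    simp only [Fin.prod_univ_one, Fin.val_zero, pow_zero] at hsum
    rw [Nat.mul_comm (q ^ n - 1)] at hsum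
    rw [Nat.eq_of_mul_eq_mul_right (Nat.sub_pos_of_lt (Nat.one_lt_pow (by omega) hq1)) hsum, Nat.mul_comm n (n - 1)]

end Cfsg.Agent.NilCount
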